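import Groth.Agent.Lib.InjTilde20.Indec
import Groth.Agent.Lib.InjCoprod20.Basic
import Groth.Agent.Lib.InjLocal20.Local
import Groth.Agent.Lib.ExtTilde20.Affine
import Mathlib.Algebra.Category.ModuleCat.Products
import Mathlib.RingTheory.LocalProperties.Injective

/-!
# The sheaf of an injective module on a Noetherian affine scheme is injective
-/

set_option autoImplicit false
set_option maxHeartbeats 400000
set_option linter.style.haveILetI false
set_option backward.isDefEq.respectTransparency false

universe u

open CategoryTheory CategoryTheory.Limits AlgebraicGeometry Opposite TopologicalSpace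

namespace GrothLib.InjTilde20

section Affine

variable {R : CommRingCat.{u}} [IsNoetherianRing R]

/-- The sheaf of an injective module is injective among all modules. -/
theorem injective_tilde (M : ModuleCat.{u} R) (hM : Module.Injective R M) : Injective (tilde M) := by
  classical
  obtain ⟨ι, E, hE, hEi⟩ := InjMod.exists_decomposition (R := R) M hM
  let Z : ι → ModuleCat.{u} R := fun i => ModuleCat.of R (E i)
  let e : (DirectSum ι fun i => Z i) ≃ₗ[R] M := LinearEquiv.ofBijective (DirectSum.coeLinearMap E) hE
  let a : ∐ Z ≅ M := ModuleCat.coprodIsoDirectSum Z ≪≫ e.toModuleIso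
  haveI : PreservesColimitsOfSize.{u, u} (tilde.functor R) :=
    (tilde.adjunction (R := R)).leftAdjoint_preservesColimits
  have hinj : ∀ i, Injective ((tilde.functor R).obj (Z i)) := fun i => by
    obtain ⟨p, hp⟩ := exists_isPrimary (E i) (hEi i).1 (hEi i).2
    exact injective_tilde_of_isPrimary hp (hEi i).2
  haveI := InjCoprod20.injective_coproduct _ hinj
  exact Injective.of_iso ((PreservesCoproduct.iso (tilde.functor R) Z).symm ≪≫
    (tilde.functor R).mapIso a) inferInstance

/-- A module is injective when the stalks of its sheaf are. -/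
theorem injective_of_stalks (M : ModuleCat.{u} R)
    (h : ∀ y : Spec R, Module.Injective ((Spec R).presheaf.stalk y) ((tilde M).presheaf.stalk y)) :
    Module.Injective R M := by
  let pt : ∀ (P : Ideal R) [P.IsMaximal], Spec R :=
    fun P hP => (⟨P, hP.isPrime⟩ : PrimeSpectrum R)
  let alg : ∀ (P : Ideal R) [P.IsMaximal], Algebra R ((Spec R).presheaf.stalk (pt P)) :=
    fun P _ => (StructureSheaf.toStalk R (pt P)).hom.toAlgebra
  have hloc : ∀ (P : Ideal R) [P.IsMaximal],
      @IsLocalization.AtPrime _ _ ((Spec R).presheaf.stalk (pt P)) _ (alg P) P _ :=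
    fun P _ => StructureSheaf.IsLocalization.to_stalk R (pt P)
  have htower : ∀ (P : Ideal R) [P.IsMaximal],
      @IsScalarTower R ((Spec R).presheaf.stalk (pt P)) ((tilde M).presheaf.stalk (pt P))
        (alg P).toSMul _ _ :=
    fun P _ => letI := alg P; IsScalarTower.of_algebraMap_smul fun _ _ => rfl
  have hmod : ∀ (P : Ideal R) [P.IsMaximal],
      IsLocalizedModule P.primeCompl (tilde.toStalk M (pt P)).hom := fun P hP => by
    haveI := hP.isPrime
    have key : ∀ y : Spec R,
        IsLocalizedModule (PrimeSpectrum.asIdeal y).primeCompl (tilde.toStalk M y).hom :=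
      fun y => inferInstance
    exact key (pt P)
  exact @Module.injective_of_localization_maximal' R _ M _ _
    (fun P _ => (Spec R).presheaf.stalk (pt P)) (fun P _ => inferInstance) (fun P _ => inferInstance)
    (fun P _ => alg P) (fun P _ => hloc P)
    (fun P _ => (tilde M).presheaf.stalk (pt P)) (fun P _ => inferInstance) (fun P _ => inferInstance)
    (fun P _ => inferInstance) (fun P _ => htower P)
    (fun P _ => (tilde.toStalk M (pt P)).hom) (fun P _ => hmod P) inferInstance inferInstance
    (fun P _ => h (pt P))

end Affine

variable {X : Scheme.{u}} [IsLocallyNoetherian X]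

/-- A quasi-coherent module with injective sections over the affine opens is injective. -/
theorem injective_of_sections (F : X.Modules) [F.IsQuasicoherent]
    (h : ∀ (U : X.Opens), IsAffineOpen U → Module.Injective Γ(X, U) Γ(F, U)) : Injective F := by
  refine InjLocal20.injective_of_locally F fun x => ?_
  obtain ⟨_, ⟨U, hU, rfl⟩, hxU, -⟩ :=
    X.isBasis_affineOpens.exists_subset_of_mem_open (Set.mem_univ x) isOpen_univ
  haveI : IsNoetherianRing Γ(X, U) := IsLocallyNoetherian.component_noetherian ⟨U, hU⟩
  refine ⟨U, hxU, ?_⟩
  have h1 := injective_tilde (ExtTilde20.secMod (U := U) F) (h U hU)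
  have h2 : Injective (F.restrict hU.fromSpec) := Injective.of_iso (ExtTilde20.restrictTildeIso hU F).symm h1
  have h3 := HomRestrict20.injective_restrictFunctor hU.isoSpec.hom (F.restrict hU.fromSpec) h2
  exact Injective.of_iso (((Scheme.Modules.restrictFunctorComp hU.isoSpec.hom hU.fromSpec).app F).symm ≪≫
    (Scheme.Modules.restrictFunctorCongr hU.isoSpec_hom_fromSpec).app F) h3

/-- A quasi-coherent module with injective stalks is injective. -/
theorem injective_of_forall_stalk (F : X.Modules) [F.IsQuasicoherent]
    (h : ∀ x : X, Injective ((OX.stalk x).obj F)) : Injective F := by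
  refine injective_of_sections F fun U hU => ?_
  haveI : IsNoetherianRing Γ(X, U) := IsLocallyNoetherian.component_noetherian ⟨U, hU⟩
  refine injective_of_stalks (ExtTilde20.secMod (U := U) F) fun y => ?_
  haveI : (ModuleCat.restrictScalars.{u} (ExtTilde20.openRingEquiv hU.fromSpec y).toRingHom).IsEquivalence :=
    ModuleCat.restrictScalars_isEquivalence_of_ringEquiv (ExtTilde20.openRingEquiv hU.fromSpec y)
  have h0 : Injective ((OX.stalk y).obj (F.restrict hU.fromSpec)) :=
    ((ModuleCat.restrictScalars.{u}
      (ExtTilde20.openRingEquiv hU.fromSpec y).toRingHom).asEquivalence.map_injective_iff _).1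
      (Injective.of_iso (ExtTilde20.stalkRestrictIso F hU.fromSpec y) (h _))
  have h1 : Injective ((OX.stalk y).obj (tilde (ExtTilde20.secMod (U := U) F))) :=
    Injective.of_iso ((OX.stalk y).mapIso (ExtTilde20.restrictTildeIso hU F)) h0
  exact Module.injective_module_of_injective_object ((Spec Γ(X, U)).presheaf.stalk y)
    ((tilde (ExtTilde20.secMod (U := U) F)).presheaf.stalk y) (inj := h1)

end GrothLib.InjTilde20
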