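import Groth.Agent.Lib.InjTilde20.Main
import Groth.Agent.Lib.QCoh.Pieces
import Mathlib.AlgebraicGeometry.IdealSheaf.Subscheme
import Mathlib.Algebra.Homology.DerivedCategory.Ext.ExactSequences

/-!
# Cyclic modules over an affine open extend to coherent modules; Baer's criterion via `Ext¹`
-/

set_option autoImplicit false
set_option maxHeartbeats 400000
set_option linter.style.haveILetI false
set_option backward.isDefEq.respectTransparency false

universe u

open CategoryTheory CategoryTheory.Limits AlgebraicGeometry Opposite TopologicalSpace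

namespace GrothLib.InjTilde20

variable {X : Scheme.{u}} [IsLocallyNoetherian X]

/-- Cyclic modules over an affine open are sections of coherent modules. -/
theorem exists_isCoh_cyclic {U : X.Opens} (hU : IsAffineOpen U) (I : Ideal Γ(X, U)) :
    ∃ G : X.Modules, Coh.IsCoh G ∧ Nonempty ((Γ(X, U) ⧸ I) ≃ₗ[Γ(X, U)] Γ(G, U)) := by
  let ψ : Spec (CommRingCat.of (Γ(X, U) ⧸ I)) ⟶ Spec Γ(X, U) :=
    Spec.map (CommRingCat.ofHom (Ideal.Quotient.mk I))
  let g := ψ ≫ hU.fromSpec
  haveI : QuasiCompact g := inferInstance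
  let i := g.ker.subschemeι
  refine ⟨QCoh.pushUnit i, QCoh.pushUnit_isCoh i, ?_⟩
  have hnat : ∀ (V : (Spec Γ(X, U)).Opens) (e : V = ⊤) (b : Γ(Spec Γ(X, U), ⊤)),
      ψ.app V ((Spec Γ(X, U)).presheaf.map (eqToHom e).op b) = 0 ↔ ψ.appTop b = 0 := by
    rintro V rfl b
    simp
  have hker : g.ker.ideal ⟨U, hU⟩ = I := by
    rw [Scheme.Hom.ker_apply]
    ext a
    rw [RingHom.mem_ker]
    have h1 : (g.app U).hom a = ψ.app (hU.fromSpec ⁻¹ᵁ U) (hU.fromSpec.app U a) := by
      change ((ψ ≫ hU.fromSpec).app U).hom a = _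
      rw [Scheme.Hom.comp_app]
      rfl
    rw [h1, hU.fromSpec_app_self]
    refine (hnat _ hU.fromSpec_preimage_self _).trans ?_
    have h2 := ConcreteCategory.congr_hom
      (Scheme.ΓSpecIso_inv_naturality (CommRingCat.ofHom (Ideal.Quotient.mk I))) a
    change ψ.appTop ((Scheme.ΓSpecIso Γ(X, U)).inv a) = 0 ↔ _
    rw [show ψ.appTop ((Scheme.ΓSpecIso Γ(X, U)).inv a) =
      (Scheme.ΓSpecIso (CommRingCat.of (Γ(X, U) ⧸ I))).inv (Ideal.Quotient.mk I a) from h2.symm,
      map_eq_zero_iff _ (ConcreteCategory.bijective_of_isIso _).1]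
    exact Ideal.Quotient.eq_zero_iff_mem
  have hki : RingHom.ker (i.app U).hom = I := by
    have h := Scheme.Hom.ker_apply i ⟨U, hU⟩
    rw [show i.ker = g.ker from Scheme.IdealSheafData.ker_subschemeι _, hker] at h
    exact h.symm
  let f : Γ(X, U) →ₗ[Γ(X, U)] Γ(QCoh.pushUnit i, U) :=
    { toFun := fun a => (i.app U).hom a
      map_add' := map_add _
      map_smul' := fun a b => map_mul (i.app U).hom a b }
  have hf : LinearMap.ker f = I := by
    ext a
    exact LinearMap.mem_ker.trans ((RingHom.mem_ker (f := (i.app U).hom)).symm.trans (SetLike.ext_iff.1 hki a))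
  exact ⟨(Submodule.quotEquivOfEq I (LinearMap.ker f) hf.symm).trans
    (f.quotKerEquivOfSurjective (Scheme.Hom.app_surjective i U hU))⟩

/-- A module with `Ext¹(A ⧸ I, -) = 0` for all ideals is injective. -/
theorem injective_of_ext_one {A : Type u} [CommRing A] (M : ModuleCat.{u} A)
    (h : ∀ I : Ideal A, Subsingleton (Abelian.Ext (ModuleCat.of A (A ⧸ I)) M 1)) :
    Module.Injective A M := by
  refine Module.Baer.injective fun J g => ?_
  let S := ShortComplex.mk (ModuleCat.ofHom J.subtype) (ModuleCat.ofHom J.mkQ)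
    (by ext x; exact (Submodule.Quotient.mk_eq_zero J).2 x.2)
  have hS : S.ShortExact :=
    ShortComplex.ShortExact.mk' ((ShortComplex.moduleCat_exact_iff_range_eq_ker _).2
      (by simp [S])) ((ModuleCat.mono_iff_injective _).2 J.subtype_injective)
      ((ModuleCat.epi_iff_surjective _).2 J.mkQ_surjective)
  haveI : Subsingleton (Abelian.Ext S.X₃ M 1) := h J
  obtain ⟨x₂, hx₂⟩ := Abelian.Ext.contravariant_sequence_exact₁ hS M
    (Abelian.Ext.mk₀ (ModuleCat.ofHom g)) (n₁ := 1) (add_zero 1) (Subsingleton.elim _ _)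
  obtain ⟨t, rfl⟩ := (Abelian.Ext.mk₀_bijective _ _).2 x₂
  rw [Abelian.Ext.mk₀_comp_mk₀] at hx₂
  have e := (Abelian.Ext.mk₀_bijective _ _).1 hx₂
  exact ⟨t.hom, fun x hx => ConcreteCategory.congr_hom e ⟨x, hx⟩⟩

end GrothLib.InjTilde20
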