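import Groth.Agent.Lib.InjSky20.Basic
import Groth.Agent.Lib.InjSky20.Stalk
import Groth.Agent.Lib.InjMod.Matlis

/-!
# The sheaf of an indecomposable injective module is a skyscraper
-/

set_option autoImplicit false
set_option maxHeartbeats 400000
set_option linter.style.haveILetI false
set_option backward.isDefEq.respectTransparency false

universe u

open CategoryTheory CategoryTheory.Limits AlgebraicGeometry Opposite TopologicalSpace

namespace GrothLib.InjTilde20

variable {R : CommRingCat.{u}} (p : Spec R) (M : ModuleCat.{u} R)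

/-- Elements of the prime act locally nilpotently and the others bijectively. -/
structure IsPrimary : Prop where
  torsion : LocCoh.IsPowerTorsion p.asIdeal M
  bij : ∀ s : R, s ∉ p.asIdeal → Function.Bijective (fun m : M => s • m)

variable {p M}

/-- Sections of the sheaf vanish at points outside the closure of `p`. -/
theorem germ_eq_zero (hM : IsPrimary p M) {U : (Spec R).Opens} {y : Spec R} (hy : y ∈ U)
    (hpy : ¬ p.asIdeal ≤ y.asIdeal) (s : Γ(tilde M, U)) : (tilde M).presheaf.germ U y hy s = 0 := by
  obtain ⟨⟨m, t⟩, ht⟩ := IsLocalizedModule.surj (PrimeSpectrum.asIdeal y).primeCompl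
    (tilde.toStalk M y).hom ((tilde M).presheaf.germ U y hy s)
  obtain ⟨n, hn⟩ := hM.torsion m
  obtain ⟨r, hr, hr'⟩ := SetLike.not_le_iff_exists.1 hpy
  have hm0 : (tilde.toStalk M y).hom m = 0 := by
    refine IsLocalizedModule.smul_injective (tilde.toStalk M y).hom (⟨r ^ n, fun h => hr'
      (y.isPrime.mem_of_pow_mem n h)⟩ : y.asIdeal.primeCompl) ?_
    change r ^ n • (tilde.toStalk M y).hom m = r ^ n • 0
    rw [← map_smul, hn _ (Ideal.pow_mem_pow hr n), map_zero, smul_zero]
  have h2 : t • ((tilde M).presheaf.germ U y hy s) = 0 := ht.trans hm0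
  exact (IsLocalizedModule.smul_injective (tilde.toStalk M y).hom t) (h2.trans (smul_zero _).symm)

theorem bijective_toStalk (hM : IsPrimary p M) : Function.Bijective (tilde.toStalk M p).hom := by
  constructor
  · intro a b h
    obtain ⟨c, hc⟩ := (IsLocalizedModule.eq_iff_exists p.asIdeal.primeCompl (tilde.toStalk M p).hom).1 h
    exact (hM.bij c c.2).1 hc
  · intro z
    obtain ⟨⟨m, t⟩, ht⟩ := IsLocalizedModule.surj p.asIdeal.primeCompl (tilde.toStalk M p).hom z
    obtain ⟨m', rfl⟩ := (hM.bij t t.2).2 m
    refine ⟨m', IsLocalizedModule.smul_injective (tilde.toStalk M p).hom t ?_⟩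
    exact (((tilde.toStalk M p).hom.map_smul (t : R) m').symm.trans ht.symm)

/-- A section over an open containing `p` vanishing at `p` is zero. -/
theorem eq_zero_of_germ_eq_zero (hM : IsPrimary p M) {U : (Spec R).Opens} (hp : p ∈ U)
    (s : Γ(tilde M, U)) (hs : (tilde M).presheaf.germ U p hp s = 0) : s = 0 := by
  refine TopCat.Presheaf.section_ext ⟨(tilde M).presheaf, (tilde M).isSheaf⟩ U s 0 fun y hy => ?_
  rw [map_zero]
  by_cases hpy : p.asIdeal ≤ y.asIdeal
  swap
  · exact germ_eq_zero hM hy hpy s
  obtain ⟨⟨m, t⟩, ht⟩ := IsLocalizedModule.surj (PrimeSpectrum.asIdeal y).primeCompl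
    (tilde.toStalk M y).hom ((tilde M).presheaf.germ U y hy s)
  have hspec : p ⤳ y := (PrimeSpectrum.le_iff_specializes p y).1 hpy
  let σ := TopCat.Presheaf.stalkSpecializes (tilde M).presheaf hspec
  have hσ : ∀ (V : (Spec R).Opens) (hV : y ∈ V) (a : Γ(tilde M, V)),
      σ ((tilde M).presheaf.germ V y hV a) =
        (tilde M).presheaf.germ V p (hspec.mem_open V.2 hV) a := fun V hV a =>
    TopCat.Presheaf.germ_stalkSpecializes_apply (tilde M).presheaf hV hspec a
  have hm : (tilde.toStalk M p).hom m = 0 := by
    let r : Γ(Spec R, U) := (Spec R).presheaf.map (homOfLE le_top).op ((Scheme.ΓSpecIso R).inv (t : R))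
    have h1 : (tilde M).presheaf.germ U y hy (r • s) =
        (t : R) • (tilde M).presheaf.germ U y hy s := by
      refine (OX.germ_smul' (x := y) (DCoh.toP.obj (tilde M)) U hy r s).trans ?_
      dsimp only [r]
      rw [TopCat.Presheaf.germ_res_apply]
      rfl
    have h2 : (tilde M).presheaf.germ U p hp (r • s) = 0 :=
      (OX.germ_smul' (x := p) (DCoh.toP.obj (tilde M)) U hp r s).trans
        ((congrArg (fun z => (Spec R).presheaf.germ U p hp r • z) hs).trans (smul_zero _))
    have h3 : (tilde.toStalk M y).hom m = (tilde M).presheaf.germ ⊤ y trivial (tilde.toOpen M ⊤ m) := rfl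
    have h4 : (tilde.toStalk M p).hom m = (tilde M).presheaf.germ ⊤ p trivial (tilde.toOpen M ⊤ m) := rfl
    rw [h4, ← hσ ⊤ trivial, ← h3, ← h2, ← hσ U hy, h1]
    exact congrArg σ ht.symm
  have hm0 : m = 0 := (bijective_toStalk hM).1 (hm.trans (map_zero _).symm)
  have h2 : t • ((tilde M).presheaf.germ U y hy s) = 0 := by
    rw [ht, hm0, map_zero]
  exact (IsLocalizedModule.smul_injective (tilde.toStalk M y).hom t) (h2.trans (smul_zero _).symm)

/-- The sheaf of a primary module is the skyscraper at its point. -/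
theorem isIso_unit_app (hM : IsPrimary p M) :
    IsIso ((OX.stalkSkyAdj (X := Spec R) p).unit.app (tilde M)) := by
  rw [Scheme.Modules.Hom.isIso_iff_isIso_app]
  intro U
  rw [ConcreteCategory.isIso_iff_bijective]
  by_cases hU : p ∈ U
  · constructor
    · refine (injective_iff_map_eq_zero _).2 fun s hs => eq_zero_of_germ_eq_zero hM hU s ?_
      exact congrFun hs ⟨hU⟩
    · intro e
      obtain ⟨m, hm⟩ := (bijective_toStalk hM).2 (e ⟨hU⟩)
      refine ⟨tilde.toOpen M U m, funext fun _ => ?_⟩
      refine Eq.trans ?_ hm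
      refine (congrArg (OX.germ (x := p) (DCoh.toP.obj (tilde M)) U hU)
        (ConcreteCategory.congr_hom (tilde.toOpen_res M ⊤ U (homOfLE le_top)) m).symm).trans ?_
      exact OX.germ_map (x := p) (DCoh.toP.obj (tilde M)) (homOfLE le_top) hU _
  · constructor
    · intro s t _
      refine TopCat.Presheaf.section_ext ⟨(tilde M).presheaf, (tilde M).isSheaf⟩ U s t fun y hy => ?_
      have hpy : ¬ p.asIdeal ≤ y.asIdeal := fun h =>
        hU (((PrimeSpectrum.le_iff_specializes p y).1 h).mem_open U.2 hy)
      exact (germ_eq_zero hM hy hpy s).trans (germ_eq_zero hM hy hpy t).symm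
    · intro e
      exact ⟨0, funext fun h => absurd h.down hU⟩

/-- The sheaf of an injective primary module is injective. -/
theorem injective_tilde_of_isPrimary [IsNoetherianRing R] (hM : IsPrimary p M)
    (hinj : Module.Injective R M) : Injective (tilde M) := by
  haveI := isIso_unit_app hM
  let f : M →ₗ[R] ((ModuleCat.restrictScalars (OX.specToStalk R p)).obj
      ((OX.stalk p).obj (tilde M)) : ModuleCat R) :=
    { toFun := (tilde.toStalk M p).hom
      map_add' := map_add _
      map_smul' := fun r m => (tilde.toStalk M p).hom.map_smul r m }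
  have hN := InjSky20.injective_of_baer_restrict p ((OX.stalk p).obj (tilde M))
    (Module.Baer.of_equiv (LinearEquiv.ofBijective f (bijective_toStalk hM))
      (Module.Baer.of_injective hinj))
  haveI : Injective ((OX.stalk p).obj (tilde M)) :=
    Module.injective_object_of_injective_module ((Spec R).presheaf.stalk p) _ (inj := hN)
  have h := InjSky20.injective_sky (X := Spec R) p ((OX.stalk p).obj (tilde M))
  exact Injective.of_iso (asIso ((OX.stalkSkyAdj (X := Spec R) p).unit.app (tilde M))).symm h

/-- An indecomposable injective module over a Noetherian ring is primary. -/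
theorem exists_isPrimary [IsNoetherianRing R] (E : Type u) [AddCommGroup E] [Module R E]
    (hE : InjHull.IsIndecomposable R E) (hinj : Module.Injective R E) :
    ∃ p : Spec R, IsPrimary p (ModuleCat.of R E) := by
  obtain ⟨q, hq, f, hf⟩ := InjMod.exists_prime_hull_of_indecomposable hE hinj
  refine ⟨(⟨q, hq⟩ : PrimeSpectrum R), Matlis.isPowerTorsion_of_hull hf, fun s hs => ?_⟩
  have hinj' : Function.Injective (LinearMap.lsmul R E s) := by
    rw [← LinearMap.ker_eq_bot]
    by_contra h
    obtain ⟨x, ⟨hx, a, rfl⟩, hx0⟩ := Submodule.exists_mem_ne_zero_of_ne_bot (hf.essential _ h)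
    obtain ⟨r, rfl⟩ := Submodule.Quotient.mk_surjective _ a
    refine hx0 ?_
    have h0 : f (Submodule.Quotient.mk (s * r)) = 0 := by
      rw [show (Submodule.Quotient.mk (s * r) : R ⧸ q) = s • Submodule.Quotient.mk r from rfl, map_smul]
      exact hx
    have h1 : s * r ∈ q := (Submodule.Quotient.mk_eq_zero q).1 (hf.injective (h0.trans (map_zero f).symm))
    rw [(Submodule.Quotient.mk_eq_zero q).2 ((hq.mem_or_mem h1).resolve_left hs), map_zero]
  refine ⟨hinj', fun e => ?_⟩
  obtain ⟨C, hC⟩ := InjMod.exists_isCompl_range hinj (LinearMap.lsmul R E s) hinj'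
  rcases hE.2 _ _ hC with h | h
  · haveI := hE.1
    obtain ⟨x, hx⟩ := exists_ne (0 : E)
    have : LinearMap.lsmul R E s x = 0 := by
      have hm : LinearMap.lsmul R E s x ∈ (⊥ : Submodule R E) := h ▸ LinearMap.mem_range_self _ x
      exact (Submodule.mem_bot R).1 hm
    exact absurd (hinj' (this.trans (map_zero _).symm)) hx
  · have ht : LinearMap.range (LinearMap.lsmul R E s) = ⊤ := by
      have h' := hC.sup_eq_top
      rwa [h, sup_bot_eq] at h'
    exact LinearMap.range_eq_top.1 ht e

end GrothLib.InjTilde20
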